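import Mathlib
import Cfsg.Prelude.Def_BlockRank
import Cfsg.Agent.H608.BlockRank
import Cfsg.Agent.Blocks.PrincipalSection
import Cfsg.Agent.S4646
set_option linter.all false

/-!
# `k(B₀) - l(B₀)` as a sum over the classes of nontrivial `p`-elements

* `card_principal_eq` : `k(B₀(G)) = ∑ l(B₀(C_G(x)))`, the sum over representatives of the classes of
  `p`-elements;
* `rank_add_rank_le`, `rank_add_rank_add_rank_le` : one or two nontrivial terms;
* `pNilpotent_and_conj` : if `k(B₀) = l(B₀) + 1` then the nontrivial `p`-elements are conjugate and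
  their centralizers have normal `p`-complements.
-/

set_option autoImplicit false

open Cfsg Cfsg.Agent.Blocks.Basic Cfsg.Agent.Blocks.Local Module

namespace Cfsg.Agent.H634.Cols

open Cfsg.Agent.H608.BlockRank

universe u

variable {G : Type u} [Group G] [Finite G] {p : ℕ} [Fact p.Prime] {M : Ideal AlgInt}

theorem finrank_secMap_one (B : Set (IrrCharacter G)) :
    finrank ℂ ((charSpan B).map (secMap p (1 : G) (Subgroup.centralizer ({(1 : G)} : Set G)))) =
      blockRank p B := by
  classical
  have hall : ∀ g : G, g ∈ Subgroup.centralizer ({(1 : G)} : Set G) := fun g => by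
    rw [Subgroup.mem_centralizer_singleton_iff]; simp
  set H := Subgroup.centralizer ({(1 : G)} : Set G) with hH
  let L : (G → ℂ) →ₗ[ℂ] (H → ℂ) := LinearMap.funLeft ℂ ℂ (Subtype.val : H → G)
  have hL : Function.Injective L := by
    intro f g h
    funext x
    exact congrFun h ⟨x, hall x⟩
  have hcomp : secMap p (1 : G) H = L.comp (pReg p) := by
    apply LinearMap.ext
    intro θ
    funext y
    change secMap p (1 : G) H θ y = pReg p θ (y : G)
    by_cases hy : IsPRegular p y
    · have hy' : IsPRegular p (y : G) := by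
        unfold IsPRegular at hy ⊢
        rwa [Subgroup.orderOf_coe]
      rw [secMap_of hy, pReg_of hy', one_mul]
    · have hy' : ¬ IsPRegular p (y : G) := by
        unfold IsPRegular at hy ⊢
        rwa [Subgroup.orderOf_coe]
      rw [secMap_of_not hy, pReg_of_not hy']
  rw [blockRank_eq, hcomp, Submodule.map_comp]
  exact (Submodule.equivMapOfInjective L hL _).finrank_eq.symm

/-- The dimension of the restriction of the principal block to the `p`-section of `x`. -/
theorem finrank_secMap_principal (hM : IsPModular p M) {x : G}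
    (hx : ∃ k : ℕ, orderOf x = p ^ k) :
    finrank ℂ ((charSpan (principalBlock M G)).map
      (secMap p x (Subgroup.centralizer ({x} : Set G)))) =
      blockRank p (principalBlock M ↥(Subgroup.centralizer ({x} : Set G))) :=
  finrank_secMap hM Blocks.PrincipalSection.isPBlock_principalBlock hx rfl
    (Blocks.PrincipalSection.mem_principalBlock_iff_induced hM x hx rfl)

/-- Brauer's formula for the principal block. -/
theorem card_principal_eq (hM : IsPModular p M) (X : Finset G)
    (hX : ∀ x ∈ X, ∃ k : ℕ, orderOf x = p ^ k)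
    (hXrep : ∀ g : G, (∃ k : ℕ, orderOf g = p ^ k) → ∃! x, x ∈ X ∧ IsConj g x) :
    Nat.card (principalBlock M G) = ∑ x ∈ X,
      blockRank p (principalBlock M ↥(Subgroup.centralizer ({x} : Set G))) := by
  have hMp := isPrime_of_isPModular hM
  rw [card_eq_sum_finrank hM (isUnion_of_isPBlock Blocks.PrincipalSection.isPBlock_principalBlock)
    X hX hXrep]
  exact Finset.sum_congr rfl fun x hx => finrank_secMap_principal hM (hX x hx)

theorem blockRank_pos (hM : IsPModular p M) : 0 < blockRank p (principalBlock M G) := by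
  have hMp := isPrime_of_isPModular hM
  unfold blockRank
  rw [Module.finrank_pos_iff_exists_ne_zero]
  refine ⟨⟨_, Submodule.subset_span ⟨⟨fun _ => 1, isIrrCharacter_one⟩,
    Blocks.PrincipalSection.one_mem_principalBlock, rfl⟩⟩, ?_⟩
  intro h
  have h1 := congrFun (congrArg Subtype.val h) (1 : G)
  have h2 : ¬ p ∣ orderOf (1 : G) := S4646.not_dvd_one
  have h3 : pRegularPart p (fun _ : G => (1 : ℂ)) 1 = 1 := by
    rw [← pReg_eq, pReg_of h2]
  exact one_ne_zero (h3.symm.trans h1)

/-- A system of representatives of the classes of `p`-elements containing given nonconjugate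
elements. -/
theorem exists_reps (S : Finset G) (hS : ∀ x ∈ S, ∃ k : ℕ, orderOf x = p ^ k)
    (hinj : ∀ x ∈ S, ∀ y ∈ S, IsConj x y → x = y) :
    ∃ X : Finset G, S ⊆ X ∧ (∀ x ∈ X, ∃ k : ℕ, orderOf x = p ^ k) ∧
      ∀ g : G, (∃ k : ℕ, orderOf g = p ^ k) → ∃! x, x ∈ X ∧ IsConj g x := by
  classical
  have : Fintype G := Fintype.ofFinite G
  let r : ConjClasses G → G := fun c =>
    if h : ∃ s, s ∈ S ∧ ConjClasses.mk s = c then h.choose else c.out
  have hr : ∀ c, ConjClasses.mk (r c) = c := by
    intro c
    by_cases h : ∃ s, s ∈ S ∧ ConjClasses.mk s = c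
    · have : r c = h.choose := dif_pos h
      rw [this]
      exact h.choose_spec.2
    · have : r c = c.out := dif_neg h
      rw [this]
      exact Quotient.out_eq c
  have hrS : ∀ s ∈ S, r (ConjClasses.mk s) = s := by
    intro s hs
    have h : ∃ s', s' ∈ S ∧ ConjClasses.mk s' = ConjClasses.mk s := ⟨s, hs, rfl⟩
    have h1 : r (ConjClasses.mk s) = h.choose := dif_pos h
    rw [h1]
    exact hinj _ h.choose_spec.1 _ hs (ConjClasses.mk_eq_mk_iff_isConj.1 h.choose_spec.2)
  have hord : ∀ x y : G, IsConj x y → orderOf x = orderOf y := by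
    intro x y h
    obtain ⟨c, hc⟩ := isConj_iff.1 h
    rw [← hc]
    exact (MulEquiv.orderOf_eq (MulAut.conj c) x).symm
  refine ⟨(Finset.univ.filter fun g : G => ∃ k : ℕ, orderOf g = p ^ k).image
    fun g => r (ConjClasses.mk g), ?_, ?_, ?_⟩
  · intro s hs
    rw [Finset.mem_image]
    exact ⟨s, by simpa using hS s hs, hrS s hs⟩
  · intro x hx
    rw [Finset.mem_image] at hx
    obtain ⟨g, hg, rfl⟩ := hx
    have hg' : ∃ k : ℕ, orderOf g = p ^ k := by simpa using hg
    have h1 : IsConj (r (ConjClasses.mk g)) g := ConjClasses.mk_eq_mk_iff_isConj.1 (hr _)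
    rw [hord _ _ h1]
    exact hg'
  · intro g hg
    refine ⟨r (ConjClasses.mk g), ⟨Finset.mem_image.2 ⟨g, by simpa using hg, rfl⟩,
      ConjClasses.mk_eq_mk_iff_isConj.1 (hr _).symm⟩, ?_⟩
    rintro y ⟨hy, hgy⟩
    rw [Finset.mem_image] at hy
    obtain ⟨g', -, rfl⟩ := hy
    have h1 : ConjClasses.mk g' = ConjClasses.mk g := by
      rw [← hr (ConjClasses.mk g')]
      exact (ConjClasses.mk_eq_mk_iff_isConj.2 hgy).symm
    change r (ConjClasses.mk g') = r (ConjClasses.mk g)
    rw [h1]

theorem one_conj {x : G} (h : IsConj 1 x) : x = 1 := isConj_one_right.1 h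

/-- One nontrivial term of Brauer's formula. -/
theorem rank_add_rank_le (hM : IsPModular p M) {x : G} (hx : ∃ k : ℕ, orderOf x = p ^ k)
    (hx1 : x ≠ 1) :
    blockRank p (principalBlock M G) +
      blockRank p (principalBlock M ↥(Subgroup.centralizer ({x} : Set G))) ≤
      Nat.card (principalBlock M G) := by
  classical
  have h1 : ∃ k : ℕ, orderOf (1 : G) = p ^ k := ⟨0, by simp⟩
  obtain ⟨X, hSX, hX, hXrep⟩ := exists_reps (p := p) ({1, x} : Finset G)
    (by
      intro y hy
      simp only [Finset.mem_insert, Finset.mem_singleton] at hy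
      rcases hy with rfl | rfl
      · exact h1
      · exact hx)
    (by
      intro y hy z hz hc
      simp only [Finset.mem_insert, Finset.mem_singleton] at hy hz
      rcases hy with rfl | rfl <;> rcases hz with rfl | rfl
      · rfl
      · exact (hx1 (one_conj hc)).elim
      · exact (hx1 (one_conj hc.symm)).elim
      · rfl)
  rw [card_principal_eq hM X hX hXrep]
  have h2 : ∑ y ∈ ({1, x} : Finset G),
      blockRank p (principalBlock M ↥(Subgroup.centralizer ({y} : Set G))) ≤
      ∑ y ∈ X, blockRank p (principalBlock M ↥(Subgroup.centralizer ({y} : Set G))) :=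
    Finset.sum_le_sum_of_subset hSX
  rw [Finset.sum_pair (Ne.symm hx1)] at h2
  have h3 : blockRank p (principalBlock M ↥(Subgroup.centralizer ({(1 : G)} : Set G))) =
      blockRank p (principalBlock M G) := by
    rw [← finrank_secMap_principal hM h1, finrank_secMap_one]
  rwa [h3] at h2

/-- Two nontrivial terms of Brauer's formula. -/
theorem rank_add_rank_add_rank_le (hM : IsPModular p M) {x y : G}
    (hx : ∃ k : ℕ, orderOf x = p ^ k) (hx1 : x ≠ 1) (hy : ∃ k : ℕ, orderOf y = p ^ k)
    (hy1 : y ≠ 1) (hxy : ¬ IsConj x y) :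
    blockRank p (principalBlock M G) +
      (blockRank p (principalBlock M ↥(Subgroup.centralizer ({x} : Set G))) +
      blockRank p (principalBlock M ↥(Subgroup.centralizer ({y} : Set G)))) ≤
      Nat.card (principalBlock M G) := by
  classical
  have h1 : ∃ k : ℕ, orderOf (1 : G) = p ^ k := ⟨0, by simp⟩
  obtain ⟨X, hSX, hX, hXrep⟩ := exists_reps (p := p) ({1, x, y} : Finset G)
    (by
      intro z hz
      simp only [Finset.mem_insert, Finset.mem_singleton] at hz
      rcases hz with rfl | rfl | rfl
      · exact h1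
      · exact hx
      · exact hy)
    (by
      intro z hz w hw hc
      simp only [Finset.mem_insert, Finset.mem_singleton] at hz hw
      rcases hz with rfl | rfl | rfl <;> rcases hw with rfl | rfl | rfl
      · rfl
      · exact (hx1 (one_conj hc)).elim
      · exact (hy1 (one_conj hc)).elim
      · exact (hx1 (one_conj hc.symm)).elim
      · rfl
      · exact (hxy hc).elim
      · exact (hy1 (one_conj hc.symm)).elim
      · exact (hxy hc.symm).elim
      · rfl)
  rw [card_principal_eq hM X hX hXrep]
  have h2 : ∑ z ∈ ({1, x, y} : Finset G),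
      blockRank p (principalBlock M ↥(Subgroup.centralizer ({z} : Set G))) ≤
      ∑ z ∈ X, blockRank p (principalBlock M ↥(Subgroup.centralizer ({z} : Set G))) :=
    Finset.sum_le_sum_of_subset hSX
  have hxy' : x ≠ y := fun h => hxy (h ▸ IsConj.refl _)
  rw [Finset.sum_insert (by
    simp only [Finset.mem_insert, Finset.mem_singleton, not_or]
    exact ⟨Ne.symm hx1, Ne.symm hy1⟩), Finset.sum_pair hxy'] at h2
  have h3 : blockRank p (principalBlock M ↥(Subgroup.centralizer ({(1 : G)} : Set G))) =
      blockRank p (principalBlock M G) := by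
    rw [← finrank_secMap_principal hM h1, finrank_secMap_one]
  rwa [h3] at h2

/-- **`k(B₀) = l(B₀) + 1`**: all nontrivial `p`-elements are conjugate and their centralizers have
normal `p`-complements. -/
theorem pNilpotent_and_conj (hM : IsPModular p M)
    (hk : Nat.card (principalBlock M G) = blockRank p (principalBlock M G) + 1) {x : G}
    (hx : ∃ k : ℕ, orderOf x = p ^ k) (hx1 : x ≠ 1) :
    HasNormalPComplement p ↥(Subgroup.centralizer ({x} : Set G)) ∧
      ∀ y : G, (∃ k : ℕ, orderOf y = p ^ k) → y ≠ 1 → IsConj x y := by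
  constructor
  · have h1 := rank_add_rank_le hM hx hx1
    have h2 := blockRank_pos (G := ↥(Subgroup.centralizer ({x} : Set G))) hM
    have : Fintype ↥(Subgroup.centralizer ({x} : Set G)) := Fintype.ofFinite _
    exact S4646.compl_of_rank_one hM (by omega)
  · intro y hy hy1
    by_contra hxy
    have h1 := rank_add_rank_add_rank_le hM hx hx1 hy hy1 hxy
    have h2 := blockRank_pos (G := ↥(Subgroup.centralizer ({x} : Set G))) hM
    have h3 := blockRank_pos (G := ↥(Subgroup.centralizer ({y} : Set G))) hM
    omega

end Cfsg.Agent.H634.Cols
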