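import Mathlib
import Cfsg.Prelude.Def_Transfer
import Cfsg.Agent.H96.QdTI
import Cfsg.Agent.Blocks.RegularCount
import Cfsg.Agent.OddOrderLocal.NilpotentQuotient
import Cfsg.Agent.Classification.ZNEndA
set_option linter.all false

/-!
# Groups in which the centralizers of the nontrivial `p`-elements are `p`-nilpotent

They do not involve `Qd(p)`, `p` odd.
-/

set_option autoImplicit false

open Cfsg

namespace Cfsg.Agent.H634.ZJ

open Cfsg.Agent.PLocal.QdSection Cfsg.Agent.H96.QdTI

/-- The centralizers of the nontrivial `p`-elements have normal `p`-complements. -/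
def NilCent (p : ℕ) (G : Type*) [Group G] : Prop :=
  ∀ x : G, (∃ k : ℕ, orderOf x = p ^ k) → x ≠ 1 →
    HasNormalPComplement p ↥(Subgroup.centralizer ({x} : Set G))

/-- A `p'`-element of a `p`-nilpotent group centralizes the `p`-subgroups it normalizes. -/
theorem commute_of_compl {X : Type*} [Group X] [Finite X] {p : ℕ} [hp : Fact p.Prime]
    (h : HasNormalPComplement p X) {A : Subgroup X} (hA : IsPGroup p A) {t : X}
    (ht : ¬ p ∣ orderOf t) (htA : ∀ a ∈ A, t * a * t⁻¹ ∈ A) {a : X} (ha : a ∈ A) :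
    t * a = a * t := by
  obtain ⟨N, hN, hpN, k, hk⟩ :=
    OddOrderLocal.NilpotentQuotient.exists_of_hasNormalPComplement h
  have htN : t ∈ N := by
    have h1 : orderOf (QuotientGroup.mk' N t) ∣ orderOf t := orderOf_map_dvd _ t
    have h2 : orderOf (QuotientGroup.mk' N t) ∣ p ^ k := by
      rw [← hk, Subgroup.index_eq_card]
      exact orderOf_dvd_natCard _
    have h3 : (orderOf t).Coprime (p ^ k) :=
      Nat.Coprime.pow_right _ (Nat.Coprime.symm ((Nat.Prime.coprime_iff_not_dvd hp.out).2 ht))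
    have h4 : orderOf (QuotientGroup.mk' N t) = 1 :=
      Nat.eq_one_of_dvd_coprimes h3 h1 h2
    rw [orderOf_eq_one_iff] at h4
    exact (QuotientGroup.eq_one_iff t).1 h4
  have h1 : t * a * t⁻¹ * a⁻¹ ∈ A := A.mul_mem (htA a ha) (A.inv_mem ha)
  have h2 : t * a * t⁻¹ * a⁻¹ ∈ N := by
    have h3 : a * t⁻¹ * a⁻¹ ∈ N := hN.conj_mem _ (N.inv_mem htN) a
    have h4 := N.mul_mem htN h3
    have h5 : t * (a * t⁻¹ * a⁻¹) = t * a * t⁻¹ * a⁻¹ := by group
    rwa [h5] at h4
  have h3 : t * a * t⁻¹ * a⁻¹ = 1 := by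
    obtain ⟨m, hm⟩ := (IsPGroup.iff_orderOf.1 hA) ⟨_, h1⟩
    have h4 : orderOf (t * a * t⁻¹ * a⁻¹) = p ^ m := by
      rw [← hm, ← Subgroup.orderOf_coe]
    have h5 : orderOf (t * a * t⁻¹ * a⁻¹) ∣ Nat.card N := by
      have := orderOf_dvd_natCard (⟨_, h2⟩ : N)
      rwa [← Subgroup.orderOf_coe] at this
    rcases Nat.eq_zero_or_pos m with rfl | hm0
    · rw [pow_zero] at h4
      exact orderOf_eq_one_iff.1 h4
    · exact absurd ((dvd_pow_self p hm0.ne').trans (h4 ▸ h5)) hpN
  calc t * a = (t * a * t⁻¹ * a⁻¹) * (a * t) := by group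
    _ = a * t := by rw [h3, one_mul]

/-- The same inside the centralizer of a nontrivial `p`-element. -/
theorem NilCent.commute {G : Type*} [Group G] [Finite G] {p : ℕ} [hp : Fact p.Prime]
    (h : NilCent p G) {x : G} (hx : ∃ k : ℕ, orderOf x = p ^ k) (hx1 : x ≠ 1)
    {A : Subgroup G} (hA : IsPGroup p A) (hAx : ∀ a ∈ A, a * x = x * a) {t : G}
    (htx : t * x = x * t) (ht : ¬ p ∣ orderOf t) (htA : ∀ a ∈ A, t * a * t⁻¹ ∈ A) {a : G}
    (ha : a ∈ A) : t * a = a * t := by
  set C := Subgroup.centralizer ({x} : Set G) with hC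
  have hmem : ∀ {y : G}, y * x = x * y → y ∈ C := by
    intro y hy
    rw [hC, Subgroup.mem_centralizer_singleton_iff]
    exact hy
  have h1 := commute_of_compl (h x hx hx1) (A := A.subgroupOf C)
    (hA.comap_of_injective _ C.subtype_injective) (t := ⟨t, hmem htx⟩)
    (by rw [← Subgroup.orderOf_coe]; exact ht)
    (by
      rintro ⟨b, hb⟩ hbA
      exact htA b hbA) (a := ⟨a, hmem (hAx a ha)⟩) ha
  exact congrArg Subtype.val h1

theorem hasNormalPComplement_of_injective {X Y : Type*} [Group X] [Finite X] [Group Y] [Finite Y]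
    {p : ℕ} [hp : Fact p.Prime] (f : Y →* X) (hf : Function.Injective f)
    (h : HasNormalPComplement p X) : HasNormalPComplement p Y := by
  obtain ⟨N, hN, hpN, k, hk⟩ :=
    OddOrderLocal.NilpotentQuotient.exists_of_hasNormalPComplement h
  have h1 : ¬ p ∣ Nat.card (N.comap f) := by
    intro h2
    apply hpN
    refine h2.trans ?_
    let g : N.comap f →* N := f.subgroupComap N
    have hg : Function.Injective g := by
      intro x y hxy
      apply Subtype.ext
      exact hf (congrArg Subtype.val hxy)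
    exact Subgroup.card_dvd_of_injective g hg
  have h2 : (N.comap f).index ∣ p ^ k := by
    rw [← hk, Subgroup.index_comap]
    exact Subgroup.relIndex_dvd_index_of_normal N f.range
  obtain ⟨j, -, hj⟩ := (Nat.dvd_prime_pow hp.out).1 h2
  exact OddOrderLocal.NilpotentQuotient.hasNormalPComplement_of_index (N.comap f) (hN.comap f) h1 hj

theorem NilCent.of_injective {X Y : Type*} [Group X] [Finite X] [Group Y] [Finite Y]
    {p : ℕ} [hp : Fact p.Prime] (h : NilCent p X) (f : Y →* X) (hf : Function.Injective f) :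
    NilCent p Y := by
  intro y hy hy1
  have h1 := h (f y) (by rwa [orderOf_injective f hf]) (fun h1 => hy1 (hf (by rw [h1, map_one])))
  let g : ↥(Subgroup.centralizer ({y} : Set Y)) →* ↥(Subgroup.centralizer ({f y} : Set X)) :=
    { toFun := fun z => ⟨f z.1, by
        rw [Subgroup.mem_centralizer_singleton_iff]
        have := Subgroup.mem_centralizer_singleton_iff.1 z.2
        rw [← map_mul, ← map_mul, this]⟩
      map_one' := by
        apply Subtype.ext
        exact map_one f
      map_mul' := fun a b => by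
        apply Subtype.ext
        exact map_mul f _ _ }
  exact hasNormalPComplement_of_injective g
    (fun a b hab => Subtype.ext (hf (congrArg Subtype.val hab))) h1

/-- The key step: no group with `p`-nilpotent centralizers of `p`-elements maps onto `Qd(p)` such that
a normal `p`-subgroup maps onto the translations. -/
theorem NilCent.not_qd {N : Type*} [Group N] [Finite N] {p : ℕ} [hp : Fact p.Prime] (hp2 : p ≠ 2)
    (h : NilCent p N) (Q : Subgroup N) (hQn : Q.Normal) (hQ : IsPGroup p Q)
    (F : N →* ↥(Cfsg.qd p)) (hF : Function.Surjective F) (hQT : Q.map F = T p) : False := by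
  obtain ⟨w0, hw0⟩ := hF ⟨diag (-1 * ua p), diag_mem_qd _⟩
  obtain ⟨y, t, hyt, hc, -, -, ⟨k, hk⟩, ht⟩ := Blocks.RegularCount.exists_pPart (p := p) w0
  -- `F(t)^(p^(k+1))` is the central involution of the complement
  have hFt : F t ^ (p ^ (k + 1)) = ⟨diag (-1), diag_mem_qd _⟩ := by
    have h1 : (F y * F t) ^ (p ^ (k + 1)) = F t ^ (p ^ (k + 1)) := by
      have hc' : Commute (F y) (F t) := hc.map F
      rw [hc'.mul_pow, ← map_pow, pow_succ, pow_mul, ← hk, pow_orderOf_eq_one, one_pow, map_one,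
        one_mul]
    rw [← h1, ← map_mul, hyt, hw0]
    apply Subtype.ext
    change (diag (-1 * ua p)) ^ (p ^ (k + 1)) = diag (-1)
    rw [← map_pow]
    congr 1
    have hc2 : Commute (-1 : S2 p) (ua p) := (Commute.one_left (ua p)).neg_left
    rw [hc2.mul_pow, ((hp.out.odd_of_ne_two hp2).pow).neg_one_pow, pow_succ', pow_mul, ua_pow_p,
      one_pow, mul_one]
  -- `t` does not centralize `Q`
  have htQ : ¬ ∀ q ∈ Q, t * q = q * t := by
    intro hall
    have h1 : translHom p (Multiplicative.ofAdd ![1, 0]) ∈ T p := ⟨_, rfl⟩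
    rw [← hQT] at h1
    obtain ⟨q, hq, hq1⟩ := h1
    have h2 : Commute t q := hall q hq
    have h3 : Commute (F t ^ (p ^ (k + 1))) (F q) := (h2.map F).pow_left _
    rw [hFt, hq1] at h3
    have h4 := congrArg Subtype.val h3.eq
    change diag (-1) * transl (Multiplicative.ofAdd ![1, 0]) =
      transl (Multiplicative.ofAdd ![1, 0]) * diag (-1) at h4
    rw [diag_mul_transl, act_neg_one] at h4
    have h5 : transl (Multiplicative.ofAdd (![1, 0] : Fin 2 → ZMod p))⁻¹ =
        transl (Multiplicative.ofAdd ![1, 0]) := mul_right_cancel h4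
    have h6 := congrFun (congrFun (congrArg Subtype.val h5) 0) 2
    rw [transl_apply, transl_apply] at h6
    simp at h6
    apply two_ne hp2
    linear_combination -h6
  -- `y` is not trivial
  have hy1 : y ≠ 1 := by
    intro hy
    rw [hy, one_mul] at hyt
    have h1 : (F w0) ^ orderOf t = 1 := by rw [← hyt, ← map_pow, pow_orderOf_eq_one, map_one]
    rw [hw0] at h1
    have h2 := congrArg Subtype.val h1
    change (diag (-1 * ua p)) ^ orderOf t = 1 at h2
    rw [← map_pow, ← map_one diag] at h2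
    have h3 := diag_injective p h2
    have hc2 : Commute (-1 : S2 p) (ua p) := (Commute.one_left (ua p)).neg_left
    have h4 : (ua p) ^ (2 * orderOf t) = 1 := by
      have h5 : ((-1 * ua p) ^ orderOf t) ^ 2 = 1 := by rw [h3, one_pow]
      rw [← pow_mul, mul_comm, pow_mul] at h5
      rw [pow_mul]
      rw [hc2.mul_pow, neg_one_sq, one_mul] at h5
      exact h5
    have h5 := ua_pow p (2 * orderOf t)
    rw [h4] at h5
    have h6 := congrFun (congrFun h5 0) 1
    simp only [Matrix.SpecialLinearGroup.coe_one] at h6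
    have h7 : ((2 * orderOf t : ℕ) : ZMod p) = 0 := by simpa using h6.symm
    rw [ZMod.natCast_eq_zero_iff] at h7
    rcases (Nat.Prime.dvd_mul hp.out).1 h7 with h8 | h8
    · exact hp2 ((Nat.prime_dvd_prime_iff_eq hp.out Nat.prime_two).1 h8)
    · exact ht h8
  -- the centralizer of `y` in the center of `Q`
  set Z : Subgroup N := (Subgroup.center Q).map Q.subtype with hZ
  have hQ1 : Q ≠ ⊥ := by
    intro h0
    apply T_ne_bot p
    rw [← hQT, h0, Subgroup.map_bot]
  have hZ1 : Z ≠ ⊥ := by
    intro h0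
    have hnt : Nontrivial Q := (Subgroup.nontrivial_iff_ne_bot Q).2 hQ1
    have h1 := hQ.center_nontrivial
    have h2 : Subgroup.center Q = ⊥ :=
      (Subgroup.map_eq_bot_iff_of_injective _ Q.subtype_injective).1 h0
    rw [h2] at h1
    exact not_nontrivial _ h1
  have hZQ : Z ≤ Q := Subgroup.map_subtype_le _
  have hZp : IsPGroup p Z := hQ.to_le hZQ
  have hZmem : ∀ z, z ∈ Z ↔ z ∈ Q ∧ ∀ q ∈ Q, z * q = q * z := by
    intro z
    constructor
    · rintro ⟨z', hz', rfl⟩
      refine ⟨z'.2, fun q hq => ?_⟩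
      have := Subgroup.mem_center_iff.1 hz' ⟨q, hq⟩
      exact (congrArg Subtype.val this).symm
    · rintro ⟨hzQ, hz⟩
      refine ⟨⟨z, hzQ⟩, ?_, rfl⟩
      rw [SetLike.mem_coe, Subgroup.mem_center_iff]
      rintro ⟨q, hq⟩
      apply Subtype.ext
      exact (hz q hq).symm
  have hZn : Z.Normal := by
    constructor
    intro z hz g
    rw [hZmem] at hz ⊢
    refine ⟨hQn.conj_mem _ hz.1 g, fun q hq => ?_⟩
    have h1 := hz.2 (g⁻¹ * q * g) (by simpa using hQn.conj_mem _ hq g⁻¹)
    calc g * z * g⁻¹ * q = g * (z * (g⁻¹ * q * g)) * g⁻¹ := by group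
      _ = g * ((g⁻¹ * q * g) * z) * g⁻¹ := by rw [h1]
      _ = q * (g * z * g⁻¹) := by group
  have hyp : IsPGroup p (Subgroup.zpowers y) := by
    apply IsPGroup.of_card (n := k)
    rw [Nat.card_zpowers, hk]
  obtain ⟨a, haZ, ha1, hay⟩ := Classification.ZNEndA.exists_fixed hZp hZ1 hyp (by
    rw [Subgroup.normalizer_eq_top_iff.2 hZn]; exact le_top)
  have hay' : y * a = a * y := hay y (Subgroup.mem_zpowers y)
  -- `t` centralizes `C_Z(y)`
  set A : Subgroup N := Z ⊓ Subgroup.centralizer ({y} : Set N) with hA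
  have haA : a ∈ A := ⟨haZ, by
    show a ∈ Subgroup.centralizer ({y} : Set N)
    rw [Subgroup.mem_centralizer_singleton_iff]; exact hay'.symm⟩
  have hAp : IsPGroup p A := hZp.to_le inf_le_left
  have hta : t * a = a * t := by
    refine h.commute ⟨k, hk⟩ hy1 hAp ?_ hc.symm.eq ht ?_ haA
    · intro b hb
      exact Subgroup.mem_centralizer_singleton_iff.1 hb.2
    · intro b hb
      refine ⟨hZn.conj_mem _ hb.1 t, ?_⟩
      show t * b * t⁻¹ ∈ Subgroup.centralizer ({y} : Set N)
      rw [Subgroup.mem_centralizer_singleton_iff]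
      have hby : b * y = y * b := Subgroup.mem_centralizer_singleton_iff.1 hb.2
      have h1 : Commute y (t * b * t⁻¹) := (hc.mul_right (show Commute y b from hby.symm)).mul_right
        hc.inv_right
      exact h1.symm.eq
  -- `t` and `Q` centralize `a`
  apply htQ
  intro q hq
  have haQ := (hZmem a).1 haZ
  have haord : ∃ j : ℕ, orderOf a = p ^ j := by
    obtain ⟨j, hj⟩ := (IsPGroup.iff_orderOf.1 hQ) ⟨a, haQ.1⟩
    exact ⟨j, by rw [← hj, ← Subgroup.orderOf_coe]⟩
  exact h.commute haord ha1 hQ (fun b hb => (haQ.2 b hb).symm) hta ht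
    (fun b hb => hQn.conj_mem _ hb t) hq

/-- `Qd(p)` is not a section of a finite group with `p`-nilpotent centralizers of `p`-elements. -/
theorem NilCent.not_involves {p : ℕ} [hp : Fact p.Prime] (hp2 : p ≠ 2) {G : Type*} [Group G]
    [Finite G] (h : NilCent p G) : ¬ Lib.Involves.Involves G ↥(Cfsg.qd p) := by
  rintro ⟨K, f, hf⟩
  have hTn := T_normal p
  set M : Subgroup K := Subgroup.comap f (T p) with hM
  have hMn : M.Normal := hTn.comap f
  obtain ⟨S⟩ : Nonempty (Sylow p M) := inferInstance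
  set S0 : Subgroup K := (S : Subgroup M).map M.subtype with hS0
  have hSM : S0 ≤ M := Subgroup.map_subtype_le _
  have hSp : IsPGroup p S0 := S.isPGroup'.map _
  have hST : S0.map f = T p := by
    let g : M →* T p := f.subgroupComap (T p)
    have hg : Function.Surjective g := by
      rintro ⟨y, hy⟩
      obtain ⟨x, hx⟩ := hf y
      refine ⟨⟨x, ?_⟩, ?_⟩
      · rw [hM, Subgroup.mem_comap, hx]
        exact hy
      · apply Subtype.ext
        exact hx
    have h1 : ((S.mapSurjective hg : Sylow p (T p)) : Subgroup (T p)) = ⊤ := by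
      have h2 : IsPGroup p (⊤ : Subgroup (T p)) := (T_pgroup p).to_subgroup _
      exact ((S.mapSurjective hg).3 h2 le_top).symm
    have h2 : (S : Subgroup M).map g = ⊤ := h1
    apply le_antisymm
    · rintro _ ⟨x, hx, rfl⟩
      exact hSM hx
    · intro y hy
      have h3 : (⟨y, hy⟩ : T p) ∈ (S : Subgroup M).map g := by rw [h2]; trivial
      obtain ⟨x, hx, hxy⟩ := h3
      exact ⟨x.1, ⟨x, hx, rfl⟩, congrArg Subtype.val hxy⟩
  have hF : Subgroup.normalizer (S0 : Set K) ⊔ M = ⊤ := Sylow.normalizer_sup_eq_top S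
  set N := Subgroup.normalizer (S0 : Set K) with hN
  have hfN : ∀ y, ∃ x : N, f x = y := by
    intro y
    obtain ⟨k, rfl⟩ := hf y
    have hk : k ∈ (M ⊔ N : Subgroup K) := by
      rw [sup_comm, hF]; trivial
    obtain ⟨m, hm, n, hn, rfl⟩ := Subgroup.mem_sup_of_normal_left.1 hk
    have h1 : f m ∈ S0.map f := by rw [hST]; exact hm
    obtain ⟨s, hs, hsm⟩ := h1
    refine ⟨⟨s * n, N.mul_mem (Subgroup.le_normalizer hs) hn⟩, ?_⟩
    rw [map_mul, map_mul, hsm]
  have hNil : NilCent p N := h.of_injective (K.subtype.comp N.subtype)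
    (K.subtype_injective.comp N.subtype_injective)
  refine hNil.not_qd hp2 (S0.subgroupOf N) Subgroup.normal_in_normalizer
    (hSp.comap_of_injective _ N.subtype_injective) (f.comp N.subtype)
    (fun y => ?_) ?_
  · obtain ⟨x, hx⟩ := hfN y
    exact ⟨x, hx⟩
  · rw [← Subgroup.map_map, Subgroup.subgroupOf_map_subtype,
      inf_eq_left.2 Subgroup.le_normalizer, hST]

/-- the form used in the statements -/
theorem NilCent.not_involves' {p : ℕ} [hp : Fact p.Prime] (hp2 : p ≠ 2) {G : Type*} [Group G]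
    [Finite G] (h : NilCent p G) : ¬ Cfsg.Involves ↥(Cfsg.qd p) G :=
  fun hi => h.not_involves hp2 (Lib.Involves.involves_iff.2 hi)

end Cfsg.Agent.H634.ZJ
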