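import Cfsg.Agent.H634.ElPSU_m3
import Cfsg.Agent.H341.ThreeList_m3
import Cfsg.Agent.BiChar.SmallBase
import Cfsg.Agent.H42.Tw.F4Three
import Cfsg.Agent.S1074
import Cfsg.Agent.Transfer.NormalPComplement
import Cfsg.Agent.FastGrp
import Cfsg.Agent.Prune
set_option linter.all false

section
prune_inst 0x7f00000000000000000000000000000000000000000000000000000000000000000000000000000000000000000000000000000000000000000000000000000000000000000000000000000000000000003fffffffffffffffffffffffffffbeffbdffffffff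

-- part: H634/ElExc
section
set_option linter.all false
open scoped Cfsg.Agent.FastGrp

/-!
# Elimination: the exceptional groups
-/

set_option autoImplicit false

open Cfsg Subgroup

namespace Cfsg.Agent.H634.El

open Cfsg.Agent.H634.HypS Cfsg.Agent.H634.Dim Cfsg.Agent.H634.Num Cfsg.Agent.OrdDiv

variable {p n t : ℕ} {S : Type*} [Group S]

theorem Sit.small [hp : Fact p.Prime] (s : Sit p n t S) (ht : t ≤ 248) :
    (p = 3 ∧ n = 3 ∧ (t = 13 ∨ t = 26)) ∨ (p = 5 ∧ n = 3 ∧ 62 ≤ t) ∨ (p = 7 ∧ n = 3 ∧ 171 ≤ t) ∨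
      (p = 3 ∧ n = 5 ∧ 121 ≤ t) := by
  have hp3 := s.p3
  have hn3 := s.n3
  have h1 : p ^ n ≤ 497 := by
    have : 1 ≤ p ^ n := Nat.one_le_pow _ _ (by omega)
    rcases s.ht with h | h <;> omega
  have h2 : n < 7 := by
    by_contra h
    have h3 : 3 ^ 7 ≤ p ^ n := (Nat.pow_le_pow_right (by norm_num) (by omega : 7 ≤ n)).trans
      (Nat.pow_le_pow_left hp3 n)
    norm_num at h3
    omega
  have h3 : n = 3 ∨ n = 5 := by
    obtain ⟨k, hk⟩ := s.odd
    omega
  have h4 : p < 8 := by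
    by_contra h
    have h5 : 8 ^ 3 ≤ p ^ n := (Nat.pow_le_pow_left (by omega : 8 ≤ p) 3).trans
      (Nat.pow_le_pow_right (by omega) hn3)
    norm_num at h5
    omega
  have hpp := hp.out
  have hs := s.ht
  rcases h3 with rfl | rfl
  · interval_cases p
    · left; refine ⟨rfl, rfl, ?_⟩; omega
    · norm_num at hpp
    · right; left; refine ⟨rfl, rfl, ?_⟩; omega
    · norm_num at hpp
    · right; right; left; refine ⟨rfl, rfl, ?_⟩; omega
  · interval_cases p
    · right; right; right; refine ⟨rfl, rfl, ?_⟩; omega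
    all_goals norm_num at h1

/-- Fermat. -/
theorem fermat {r q m : ℕ} (hr : r.Prime) (hq : 1 ≤ q) (h : ¬ r ∣ q) (hm : (r - 1) ∣ m) : r ∣ q ^ m - 1 := by
  have : Fact r.Prime := ⟨hr⟩
  apply dvd_sub_one_of_pow hq
  obtain ⟨k, rfl⟩ := hm
  rw [pow_mul, ZMod.pow_card_sub_one_eq_one (zmod_ne_zero h), one_pow]

theorem three {q m : ℕ} (hq : 1 ≤ q) (h : ¬ 3 ∣ q) (hm : Even m) : 3 ∣ q ^ m - 1 :=
  fermat Nat.prime_three hq h (even_iff_two_dvd.1 hm)

theorem nine {q m : ℕ} (hq : 1 ≤ q) (h : ¬ 3 ∣ q) (hm : 6 ∣ m) : 9 ∣ q ^ m - 1 := by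
  have h1 : Nat.Coprime q 9 := (Nat.Coprime.pow_right 2 ((Nat.Prime.coprime_iff_not_dvd Nat.prime_three).2 h).symm)
  have h2 := Nat.ModEq.pow_totient h1
  have h3 : Nat.totient 9 = 6 := by decide
  rw [h3] at h2
  obtain ⟨k, rfl⟩ := hm
  have h4 : q ^ (6 * k) ≡ 1 [MOD 9] := by
    rw [pow_mul]
    have := h2.pow k
    rwa [one_pow] at this
  exact (Nat.modEq_iff_dvd' (Nat.one_le_pow _ _ hq)).1 h4.symm

/-- Groups contained in a general linear group. -/
theorem Sit.le_dim (s : Sit p n t S) [Finite S] {F ι : Type*} [Field F] [Fintype ι] [DecidableEq ι]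
    (hpF : (p : F) ≠ 0) (X : Subgroup (Matrix.GeneralLinearGroup ι F)) (e : S ≃* X) : t ≤ Fintype.card ι := by
  let ρ : S →* Matrix ι ι F := (Units.coeHom (Matrix ι ι F)).comp (X.subtype.comp e.toMonoidHom)
  have hρ : Function.Injective ρ := fun a b hab => e.injective (Subtype.ext (Units.ext hab))
  exact le_card s.dat hpF ρ hρ

/-- Defining characteristic with an even number of positive roots. -/
theorem Sit.even_false [hp : Fact p.Prime] (s : Sit p n t S) {q c N B : ℕ} (hN : Even N) (hq : ∃ f, q = p ^ f)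
    (hc : ¬ p ∣ c) (hB : ¬ p ∣ B) (h : c * Nat.card S = q ^ N * B) : False := by
  obtain ⟨f, rfl⟩ := hq
  have h0 : c * Nat.card S = p ^ (f * N) * B := by
    rw [h]
    congr 1
    rw [← pow_mul]
  have hn := s.eq_of_card h0 hc hB
  have h1 : Even n := by
    rw [hn]
    exact hN.mul_left f
  exact (Nat.not_even_iff_odd.2 s.odd) h1

theorem not_dvd_gcd {p a b : ℕ} (h : ¬ p ∣ b) : ¬ p ∣ Nat.gcd a b :=
  fun h1 => h (h1.trans (Nat.gcd_dvd_right _ _))

theorem f4_false [hp : Fact p.Prime] [Finite S] (T : OrderTable.{0}) (s : Sit p n t S) {F : Type} [Field F] [Fintype F]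
    (e : S ≃* ↥(Lie.chevF4.group F)) : False := by
  have hcard := T.f4 F _ rfl
  rw [← Nat.card_congr e.toEquiv] at hcard
  set q := Fintype.card F with hq
  have hq1 : 1 < q := Fintype.one_lt_card
  by_cases hpF : p ∣ q
  · obtain ⟨f, hf1, hf, hF⟩ := exists_card hpF
    have hs : ∀ k, 1 ≤ k → ¬ p ∣ q ^ k - 1 := fun k hk => not_dvd_sub hp.out hpF hq1.le hk
    refine s.even_false (q := q) (c := 1) (N := 24) (B := (q ^ 2 - 1) * (q ^ 6 - 1) * (q ^ 8 - 1) * (q ^ 12 - 1))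
      (by decide) ⟨f, hf⟩ hp.out.not_dvd_one ?_ (by rw [hcard]; ring)
    simp only [hp.out.dvd_mul, not_or]
    exact ⟨⟨⟨hs _ (by norm_num), hs _ (by norm_num)⟩, hs _ (by norm_num)⟩, hs _ (by norm_num)⟩
  · have h1 := s.le_dim (natCast_ne_zero hpF) _ e
    have h2 : Fintype.card Lie.chevF4.Idx = 52 := by
      rw [Fintype.card_sum, Fintype.card_fin, Fintype.card_fin]
      rfl
    rw [h2] at h1
    rcases s.small (by omega) with ⟨rfl, rfl, -⟩ | h | h | h
    · have h3 : 3 ^ 4 ∣ Nat.card S := by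
        rw [hcard]
        have : 1 * 3 * 3 * 3 * 3 ∣ q ^ 24 * (q ^ 2 - 1) * (q ^ 6 - 1) * (q ^ 8 - 1) * (q ^ 12 - 1) := by
          refine Nat.mul_dvd_mul (Nat.mul_dvd_mul (Nat.mul_dvd_mul (Nat.mul_dvd_mul (one_dvd _) ?_) ?_) ?_) ?_
          all_goals exact three hq1.le hpF (by decide)
        exact this
      exact absurd (s.le_of_dvd h3) (by norm_num)
    all_goals omega

/-- The elimination of `5`: the `5`-part of the order is `a²` or at least `5⁴`. -/
theorem five_false (s : Sit 5 3 t S) {q c A : ℕ} (hq1 : 1 ≤ q) (hc : ¬ 5 ∣ c)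
    (h : c * Nat.card S = A * ((q ^ 2 - 1) * (q ^ 6 - 1) * (q ^ 8 - 1) * (q ^ 12 - 1)))
    (hq : ¬ 5 ∣ q) (hA : ¬ 5 ∣ q ^ 2 - 1 → ¬ 5 ∣ A) : False := by
  have h5 : Nat.Prime 5 := by norm_num
  have hc' : ∀ j, (5 ^ j).Coprime c := fun j => Nat.Coprime.pow_left _ ((Nat.Prime.coprime_iff_not_dvd h5).2 hc)
  have hg : ∀ k, (q ^ 2 - 1) ∣ q ^ (2 * k) - 1 := fun k => by
    have := Nat.sub_dvd_pow_sub_pow (q ^ 2) 1 k
    rwa [one_pow, ← pow_mul] at this
  by_cases h2 : 5 ∣ q ^ 2 - 1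
  · have h3 : 5 ^ 4 ∣ c * Nat.card S := by
      rw [h]
      refine Dvd.dvd.mul_left ?_ A
      have : 5 * 5 * 5 * 5 ∣ (q ^ 2 - 1) * (q ^ 6 - 1) * (q ^ 8 - 1) * (q ^ 12 - 1) :=
        Nat.mul_dvd_mul (Nat.mul_dvd_mul (Nat.mul_dvd_mul h2 (h2.trans (hg 3))) (h2.trans (hg 4))) (h2.trans (hg 6))
      exact this
    have := s.le_of_dvd ((hc' 4).dvd_of_dvd_mul_left h3)
    omega
  · have hA' := hA h2
    have hq4 : 1 ≤ q ^ 4 := Nat.one_le_pow _ _ hq1
    obtain ⟨y, hy⟩ : ∃ y, q ^ 4 = y + 1 := ⟨q ^ 4 - 1, by omega⟩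
    have h4 : 5 ∣ y := by
      have := fermat (q := q) (m := 4) h5 hq1 hq (by norm_num)
      rwa [hy, Nat.add_sub_cancel] at this
    have e8 : q ^ 8 - 1 = y * (y + 2) := by
      have : q ^ 8 = (q ^ 4) ^ 2 := by ring
      rw [this, hy]
      have : (y + 1) ^ 2 = y * (y + 2) + 1 := by ring
      omega
    have e12 : q ^ 12 - 1 = y * (y * y + 3 * y + 3) := by
      have : q ^ 12 = (q ^ 4) ^ 3 := by ring
      rw [this, hy]
      have : (y + 1) ^ 3 = y * (y * y + 3 * y + 3) + 1 := by ring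
      omega
    have h6 : ¬ 5 ∣ q ^ 6 - 1 := by
      intro h6
      apply h2
      have h7 := Nat.dvd_sub h6 (h4.mul_left (q ^ 2))
      have h8 : q ^ 6 - 1 - q ^ 2 * y = q ^ 2 - 1 := by
        have : q ^ 6 = q ^ 2 * q ^ 4 := by ring
        rw [this, hy, mul_add, mul_one]
        (clear * -; omega)
      rwa [h8] at h7
    have hu : ¬ 5 ∣ A * (q ^ 2 - 1) * (q ^ 6 - 1) * (y + 2) * (y * y + 3 * y + 3) := by
      simp only [h5.dvd_mul, not_or]
      refine ⟨⟨⟨⟨hA', h2⟩, h6⟩, fun h => ?_⟩, fun h => ?_⟩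
      · have := (Nat.dvd_add_right h4).1 h
        omega
      · have h9 : 5 ∣ y * y + 3 * y := dvd_add (h4.mul_left y) (h4.mul_left 3)
        have := (Nat.dvd_add_right h9).1 h
        (clear * - h h9; omega)
    have h7 : c * Nat.card S = (A * (q ^ 2 - 1) * (q ^ 6 - 1) * (y + 2) * (y * y + 3 * y + 3)) * (y * y) := by
      rw [h, e8, e12]
      ring
    have h8 : 5 ^ 3 ∣ y * y := by
      have h9 : 5 ^ 3 ∣ c * Nat.card S := s.pow_dvd.mul_left c
      rw [h7] at h9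
      exact (Nat.Coprime.pow_left 3 ((Nat.Prime.coprime_iff_not_dvd h5).2 hu)).dvd_of_dvd_mul_left h9
    obtain ⟨z, rfl⟩ := h4
    have h10 : 5 ∣ z := by
      have h11 : 5 * z * (5 * z) = 5 ^ 2 * (z * z) := by ring
      rw [h11, pow_succ] at h8
      have h12 := Nat.dvd_of_mul_dvd_mul_left (by norm_num) h8
      rcases h5.dvd_mul.1 h12 with h | h <;> exact h
    obtain ⟨w, rfl⟩ := h10
    have h11 : 5 ^ 4 ∣ c * Nat.card S := by
      rw [h7]
      refine Dvd.dvd.mul_left ?_ _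
      exact ⟨w * w, by ring⟩
    have := s.le_of_dvd ((hc' 4).dvd_of_dvd_mul_left h11)
    omega

/-- The elimination of `3`. -/
theorem three_false {n : ℕ} (s : Sit 3 n t S) {q c A : ℕ} (hq1 : 1 ≤ q) (hc : c ∣ 3) (hn : n ≤ 4)
    (h : c * Nat.card S = A * ((q ^ 2 - 1) * (q ^ 6 - 1) * (q ^ 8 - 1) * (q ^ 12 - 1))) (hq : ¬ 3 ∣ q) : False := by
  have h3 : 3 ^ 6 ∣ c * Nat.card S := by
    rw [h]
    refine Dvd.dvd.mul_left ?_ A
    have : 3 * 9 * 3 * 9 ∣ (q ^ 2 - 1) * (q ^ 6 - 1) * (q ^ 8 - 1) * (q ^ 12 - 1) :=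
      Nat.mul_dvd_mul (Nat.mul_dvd_mul (Nat.mul_dvd_mul (three hq1 hq (by decide)) (nine hq1 hq (by norm_num)))
        (three hq1 hq (by decide))) (nine hq1 hq (by norm_num))
    exact this
  have h4 : 3 * 3 ^ 5 ∣ 3 * Nat.card S := by
    have : 3 * 3 ^ 5 = 3 ^ 6 := by norm_num
    rw [this]
    exact h3.trans (Nat.mul_dvd_mul_right hc _)
  have := s.le_of_dvd (Nat.dvd_of_mul_dvd_mul_left (by norm_num) h4)
  omega

theorem odd_pow_false {q m k : ℕ} (hq1 : 1 ≤ q) (hk : (k - 1) ∣ m) (hk5 : k.Prime) (hq : ¬ k ∣ q) {j : ℕ}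
    (h : k ∣ q ^ (m + j) - 1) : k ∣ q ^ j - 1 := by
  have h1 := (fermat hk5 hq1 hq hk).mul_left (q ^ j)
  have h2 := Nat.dvd_sub h h1
  have h3 : q ^ (m + j) - 1 - q ^ j * (q ^ m - 1) = q ^ j - 1 := by
    have h4 : 1 ≤ q ^ m := Nat.one_le_pow _ _ hq1
    obtain ⟨y, hy⟩ : ∃ y, q ^ m = y + 1 := ⟨q ^ m - 1, by omega⟩
    rw [pow_add, hy, Nat.add_sub_cancel]
    have : (y + 1) * q ^ j = q ^ j * y + q ^ j := by ring
    omega
  rwa [h3] at h2

theorem five_sq {q : ℕ} (h : ¬ 5 ∣ q ^ 2 - 1) : ¬ 5 ∣ q - 1 := fun h1 => h (by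
  have := Nat.sub_dvd_pow_sub_pow q 1 2
  rw [one_pow] at this
  exact h1.trans this)

theorem five_add {q : ℕ} (h : ¬ 5 ∣ q ^ 2 - 1) : ¬ 5 ∣ q + 1 := fun h1 => h (by
  have := Nat.sq_sub_sq q 1
  rw [one_pow] at this
  rw [this]
  exact h1.mul_right _)

theorem e6_false [hp : Fact p.Prime] [Finite S] (T : OrderTable.{0}) (s : Sit p n t S) {F : Type} [Field F] [Fintype F]
    (e : S ≃* ↥(Lie.chevE6.group F)) : False := by
  have hcard := T.e6 F _ rfl
  rw [← Nat.card_congr e.toEquiv] at hcard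
  set q := Fintype.card F with hq
  have hq1 : 1 < q := Fintype.one_lt_card
  by_cases hpF : p ∣ q
  · obtain ⟨f, hf1, hf, hF⟩ := exists_card hpF
    have hs : ∀ k, 1 ≤ k → ¬ p ∣ q ^ k - 1 := fun k hk => not_dvd_sub hp.out hpF hq1.le hk
    refine s.even_false (q := q) (N := 36)
      (B := (q ^ 2 - 1) * (q ^ 5 - 1) * (q ^ 6 - 1) * (q ^ 8 - 1) * (q ^ 9 - 1) * (q ^ 12 - 1))
      (by decide) ⟨f, hf⟩ (not_dvd_gcd (a := 3) (b := q - 1) (by simpa only [_root_.pow_one] using hs 1 le_rfl)) ?_ (by rw [hcard]; ring)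
    simp only [hp.out.dvd_mul, not_or]
    exact ⟨⟨⟨⟨⟨hs _ (by norm_num), hs _ (by norm_num)⟩, hs _ (by norm_num)⟩, hs _ (by norm_num)⟩, hs _ (by norm_num)⟩,
      hs _ (by norm_num)⟩
  · have h1 := s.le_dim (natCast_ne_zero hpF) _ e
    have h2 : Fintype.card Lie.chevE6.Idx = 78 := by
      rw [Fintype.card_sum, Fintype.card_fin, Fintype.card_fin]
      rfl
    rw [h2] at h1
    have hcard' : Nat.gcd 3 (q - 1) * Nat.card S = q ^ 36 * (q ^ 5 - 1) * (q ^ 9 - 1) *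
        ((q ^ 2 - 1) * (q ^ 6 - 1) * (q ^ 8 - 1) * (q ^ 12 - 1)) := by
      rw [hcard]
      ring
    rcases s.small (by omega) with ⟨rfl, rfl, -⟩ | ⟨rfl, rfl, -⟩ | h | h
    · exact three_false s hq1.le (Nat.gcd_dvd_left _ _) (by norm_num) hcard' hpF
    · refine five_false s hq1.le ?_ hcard' hpF (fun h5 => ?_)
      · intro h5
        have := h5.trans (Nat.gcd_dvd_left _ _)
        norm_num at this
      · have h6 := five_sq h5
        rw [hp.out.dvd_mul, hp.out.dvd_mul, not_or, not_or]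
        refine ⟨⟨fun h => hpF (hp.out.dvd_of_dvd_pow h), fun h => ?_⟩, fun h => ?_⟩
        · have := odd_pow_false (m := 4) (j := 1) hq1.le (by norm_num) hp.out hpF h
          rw [pow_one] at this
          exact h6 this
        · have := odd_pow_false (m := 8) (j := 1) hq1.le (by norm_num) hp.out hpF h
          rw [pow_one] at this
          exact h6 this
    all_goals omega

theorem add_pow_false {q m k : ℕ} (hq1 : 1 ≤ q) (hk : (k - 1) ∣ m) (hk5 : k.Prime) (hq : ¬ k ∣ q) {j : ℕ}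
    (h : k ∣ q ^ (m + j) + 1) : k ∣ q ^ j + 1 := by
  have h1 := (fermat hk5 hq1 hq hk).mul_left (q ^ j)
  have h2 := Nat.dvd_sub h h1
  have h3 : q ^ (m + j) + 1 - q ^ j * (q ^ m - 1) = q ^ j + 1 := by
    have h4 : 1 ≤ q ^ m := Nat.one_le_pow _ _ hq1
    obtain ⟨y, hy⟩ : ∃ y, q ^ m = y + 1 := ⟨q ^ m - 1, by omega⟩
    rw [pow_add, hy, Nat.add_sub_cancel]
    have : (y + 1) * q ^ j = q ^ j * y + q ^ j := by ring
    omega
  rwa [h3] at h2

theorem exists_pow_of_primePow {p q : ℕ} [hp : Fact p.Prime] (hq : IsPrimePow q) (h : p ∣ q) : ∃ f, 1 ≤ f ∧ q = p ^ f := by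
  obtain ⟨r, k, hr, hk, rfl⟩ := hq
  have h1 : p = r := (Nat.prime_dvd_prime_iff_eq hp.out hr.nat_prime).1 (hp.out.dvd_of_dvd_pow h)
  exact ⟨k, hk, by rw [h1]⟩

theorem te6_false [hp : Fact p.Prime] [Finite S] (T : OrderTable.{0}) (s : Sit p n t S) {F : Type} [Field F] [Fintype F]
    {q : ℕ} (hq : IsPrimePow q) (hF : Fintype.card F = q ^ 2) (e : S ≃* ↥(Lie.twistedE6 F q)) : False := by
  have hcard := T.te6 F q hq hF
  rw [← Nat.card_congr e.toEquiv] at hcard
  have hq1 : 1 < q := hq.one_lt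
  by_cases hpF : p ∣ q
  · obtain ⟨f, hf1, hf⟩ := exists_pow_of_primePow hq hpF
    have hs : ∀ k, 1 ≤ k → ¬ p ∣ q ^ k - 1 := fun k hk => not_dvd_sub hp.out hpF hq1.le hk
    have hs' : ∀ k, 1 ≤ k → ¬ p ∣ q ^ k + 1 := fun k hk => not_dvd_add_one hp.out hpF hk
    refine s.even_false (q := q) (N := 36)
      (B := (q ^ 2 - 1) * (q ^ 5 + 1) * (q ^ 6 - 1) * (q ^ 8 - 1) * (q ^ 9 + 1) * (q ^ 12 - 1))
      (by decide) ⟨f, hf⟩ (not_dvd_gcd (a := 3) (b := q + 1) (by simpa using hs' 1 le_rfl)) ?_ (by rw [hcard]; ring)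
    simp only [hp.out.dvd_mul, not_or]
    exact ⟨⟨⟨⟨⟨hs _ (by norm_num), hs' _ (by norm_num)⟩, hs _ (by norm_num)⟩, hs _ (by norm_num)⟩,
      hs' _ (by norm_num)⟩, hs _ (by norm_num)⟩
  · have h1 := s.le_dim (natCast_ne_zero (by rw [hF]; exact fun h => hpF (hp.out.dvd_of_dvd_pow h))) _ e
    have h2 : Fintype.card Lie.chevE6.Idx = 78 := by
      rw [Fintype.card_sum, Fintype.card_fin, Fintype.card_fin]
      rfl
    rw [h2] at h1
    have hcard' : Nat.gcd 3 (q + 1) * Nat.card S = q ^ 36 * (q ^ 5 + 1) * (q ^ 9 + 1) *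
        ((q ^ 2 - 1) * (q ^ 6 - 1) * (q ^ 8 - 1) * (q ^ 12 - 1)) := by
      rw [hcard]
      ring
    rcases s.small (by omega) with ⟨rfl, rfl, -⟩ | ⟨rfl, rfl, -⟩ | h | h
    · exact three_false s hq1.le (Nat.gcd_dvd_left _ _) (by norm_num) hcard' hpF
    · refine five_false s hq1.le ?_ hcard' hpF (fun h5 => ?_)
      · intro h5
        have := h5.trans (Nat.gcd_dvd_left _ _)
        norm_num at this
      · have h6 := five_add h5
        rw [hp.out.dvd_mul, hp.out.dvd_mul, not_or, not_or]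
        refine ⟨⟨fun h => hpF (hp.out.dvd_of_dvd_pow h), fun h => ?_⟩, fun h => ?_⟩
        · have := add_pow_false (m := 4) (j := 1) hq1.le (by norm_num) hp.out hpF h
          rw [pow_one] at this
          exact h6 this
        · have := add_pow_false (m := 8) (j := 1) hq1.le (by norm_num) hp.out hpF h
          rw [pow_one] at this
          exact h6 this
    all_goals omega

theorem td4_false [hp : Fact p.Prime] [Finite S] (T : OrderTable.{0}) (s : Sit p n t S) {F : Type} [Field F] [Fintype F]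
    {q : ℕ} (hq : IsPrimePow q) (hF : Fintype.card F = q ^ 3) (e : S ≃* ↥(Lie.twistedD4 F q)) : False := by
  have hcard := T.td4 F q hq hF
  rw [← Nat.card_congr e.toEquiv] at hcard
  have hq1 : 1 < q := hq.one_lt
  by_cases hpF : p ∣ q
  · obtain ⟨f, hf1, hf⟩ := exists_pow_of_primePow hq hpF
    have hs : ∀ k, 1 ≤ k → ¬ p ∣ q ^ k - 1 := fun k hk => not_dvd_sub hp.out hpF hq1.le hk
    refine s.even_false (q := q) (c := 1) (N := 12) (B := (q ^ 2 - 1) * (q ^ 6 - 1) * (q ^ 8 + q ^ 4 + 1))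
      (by decide) ⟨f, hf⟩ hp.out.not_dvd_one ?_ (by rw [hcard]; ring)
    simp only [hp.out.dvd_mul, not_or]
    refine ⟨⟨hs _ (by norm_num), hs _ (by norm_num)⟩, fun h => ?_⟩
    exact hp.out.one_lt.ne' (Nat.dvd_one.1 ((Nat.dvd_add_right (dvd_add (dvd_pow hpF (by norm_num))
      (dvd_pow hpF (by norm_num)))).1 h))
  · have h1 := s.le_dim (natCast_ne_zero (by rw [hF]; exact fun h => hpF (hp.out.dvd_of_dvd_pow h))) _ e
    have h2 : Fintype.card Lie.chevD4.Idx = 28 := by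
      rw [Fintype.card_sum, Fintype.card_fin, Fintype.card_fin]
      rfl
    rw [h2] at h1
    rcases s.small (by omega) with ⟨rfl, rfl, -⟩ | h | h | h
    · have h3 : 3 ^ 4 ∣ Nat.card S := by
        rw [hcard]
        have h4 : 3 ∣ q ^ 8 + q ^ 4 + 1 := by
          have h5 := three (q := q) (m := 8) hq1.le hpF (by decide)
          have h6 := three (q := q) (m := 4) hq1.le hpF (by decide)
          have h7 : 1 ≤ q ^ 8 := Nat.one_le_pow _ _ hq1.le
          have h8 : 1 ≤ q ^ 4 := Nat.one_le_pow _ _ hq1.le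
          omega
        have : 1 * 3 * 9 * 3 ∣ q ^ 12 * (q ^ 2 - 1) * (q ^ 6 - 1) * (q ^ 8 + q ^ 4 + 1) :=
          Nat.mul_dvd_mul (Nat.mul_dvd_mul (Nat.mul_dvd_mul (one_dvd _) (three hq1.le hpF (by decide)))
            (nine hq1.le hpF (by norm_num))) h4
        exact this
      exact absurd (s.le_of_dvd h3) (by norm_num)
    all_goals omega

theorem e7_false [hp : Fact p.Prime] [Finite S] (T : OrderTable.{0}) (s : Sit p n t S) {F : Type} [Field F] [Fintype F]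
    (e : S ≃* ↥(Lie.chevE7.group F)) : False := by
  have hcard := T.e7 F _ rfl
  rw [← Nat.card_congr e.toEquiv] at hcard
  set q := Fintype.card F with hq
  have hq1 : 1 < q := Fintype.one_lt_card
  have hp3 := s.p3
  have hc2 : ¬ p ∣ Nat.gcd 2 (q - 1) := fun h => by
    have := Nat.le_of_dvd (by norm_num) (h.trans (Nat.gcd_dvd_left _ _))
    omega
  by_cases hpF : p ∣ q
  · obtain ⟨f, hf1, hf, hF⟩ := exists_card hpF
    rw [← hq] at hf
    have hs : ∀ k, 1 ≤ k → ¬ p ∣ q ^ k - 1 := fun k hk => not_dvd_sub hp.out hpF hq1.le hk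
    have h0 : Nat.gcd 2 (q - 1) * Nat.card S = p ^ (f * 63) * ((q ^ 2 - 1) * (q ^ 6 - 1) * (q ^ 8 - 1) *
        (q ^ 10 - 1) * (q ^ 12 - 1) * (q ^ 14 - 1) * (q ^ 18 - 1)) := by
      have h9 : p ^ (f * 63) = q ^ 63 := by rw [hf, ← pow_mul]
      rw [hcard, h9]
      ring
    have hn := s.eq_of_card h0 hc2 (by
      simp only [hp.out.dvd_mul, not_or]
      exact ⟨⟨⟨⟨⟨⟨hs _ (by norm_num), hs _ (by norm_num)⟩, hs _ (by norm_num)⟩, hs _ (by norm_num)⟩,
        hs _ (by norm_num)⟩, hs _ (by norm_num)⟩, hs _ (by norm_num)⟩)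
    obtain ⟨r, hr, h1, h2, h3⟩ := s.exists_prime h0
    have hk : ∀ k, 1 ≤ k → k < 63 → ¬ r ∣ q ^ k - 1 := fun k hk1 hk2 h => by
      rw [hf, ← pow_mul, h2, hn] at h
      have := Nat.le_of_dvd (by omega) (Nat.dvd_of_mul_dvd_mul_left (by omega) h)
      omega
    simp only [hr.dvd_mul] at h1
    rcases h1 with (((((h1 | h1) | h1) | h1) | h1) | h1) | h1
    all_goals exact hk _ (by norm_num) (by norm_num) h1
  · have h1 := s.le_dim (natCast_ne_zero hpF) _ e
    have h2 : Fintype.card Lie.chevE7.Idx = 133 := by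
      rw [Fintype.card_sum, Fintype.card_fin, Fintype.card_fin]
      rfl
    rw [h2] at h1
    have hc3 : ∀ j, (p ^ j).Coprime (Nat.gcd 2 (q - 1)) :=
      fun j => Nat.Coprime.pow_left _ ((Nat.Prime.coprime_iff_not_dvd hp.out).2 hc2)
    have key : p = 3 → 7 ≤ n := fun h3 => by
      subst h3
      have h4 : 3 ^ 7 ∣ Nat.gcd 2 (q - 1) * Nat.card S := by
        rw [hcard]
        have : 1 * 3 * 3 * 3 * 3 * 3 * 3 * 3 ∣ q ^ 63 * (q ^ 2 - 1) * (q ^ 6 - 1) * (q ^ 8 - 1) *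
            (q ^ 10 - 1) * (q ^ 12 - 1) * (q ^ 14 - 1) * (q ^ 18 - 1) := by
          refine Nat.mul_dvd_mul (Nat.mul_dvd_mul (Nat.mul_dvd_mul (Nat.mul_dvd_mul (Nat.mul_dvd_mul (Nat.mul_dvd_mul
            (Nat.mul_dvd_mul (one_dvd _) ?_) ?_) ?_) ?_) ?_) ?_) ?_
          all_goals exact three hq1.le hpF (by decide)
        exact this
      exact s.le_of_dvd ((hc3 7).dvd_of_dvd_mul_left h4)
    rcases s.small (by omega) with ⟨h3, h4, -⟩ | ⟨rfl, rfl, -⟩ | h | ⟨h3, h4, -⟩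
    · have := key h3
      omega
    · refine five_false s hq1.le hc2 (A := q ^ 63 * (q ^ 10 - 1) * (q ^ 14 - 1) * (q ^ 18 - 1)) ?_ hpF (fun h5 => ?_)
      · rw [hcard]
        ring
      · rw [hp.out.dvd_mul, hp.out.dvd_mul, hp.out.dvd_mul, not_or, not_or, not_or]
        refine ⟨⟨⟨fun h => hpF (hp.out.dvd_of_dvd_pow h), fun h => ?_⟩, fun h => ?_⟩, fun h => ?_⟩
        · exact h5 (odd_pow_false (m := 8) (j := 2) hq1.le (by norm_num) hp.out hpF h)
        · exact h5 (odd_pow_false (m := 12) (j := 2) hq1.le (by norm_num) hp.out hpF h)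
        · exact h5 (odd_pow_false (m := 16) (j := 2) hq1.le (by norm_num) hp.out hpF h)
    · omega
    · have := key h3
      omega

theorem e8_false [hp : Fact p.Prime] [Finite S] (T : OrderTable.{0}) (s : Sit p n t S) {F : Type} [Field F] [Fintype F]
    (e : S ≃* ↥(Lie.chevE8.group F)) : False := by
  have hcard := T.e8 F _ rfl
  rw [← Nat.card_congr e.toEquiv] at hcard
  set q := Fintype.card F with hq
  have hq1 : 1 < q := Fintype.one_lt_card
  by_cases hpF : p ∣ q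
  · obtain ⟨f, hf1, hf, hF⟩ := exists_card hpF
    have hs : ∀ k, 1 ≤ k → ¬ p ∣ q ^ k - 1 := fun k hk => not_dvd_sub hp.out hpF hq1.le hk
    refine s.even_false (q := q) (c := 1) (N := 120) (B := (q ^ 2 - 1) * (q ^ 8 - 1) * (q ^ 12 - 1) * (q ^ 14 - 1) *
      (q ^ 18 - 1) * (q ^ 20 - 1) * (q ^ 24 - 1) * (q ^ 30 - 1))
      (by decide) ⟨f, hf⟩ hp.out.not_dvd_one ?_ (by rw [hcard]; ring)
    simp only [hp.out.dvd_mul, not_or]
    exact ⟨⟨⟨⟨⟨⟨⟨hs _ (by norm_num), hs _ (by norm_num)⟩, hs _ (by norm_num)⟩, hs _ (by norm_num)⟩,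
        hs _ (by norm_num)⟩, hs _ (by norm_num)⟩, hs _ (by norm_num)⟩, hs _ (by norm_num)⟩
  · have h1 := s.le_dim (natCast_ne_zero hpF) _ e
    have h2 : Fintype.card Lie.chevE8.Idx = 248 := by
      rw [Fintype.card_sum, Fintype.card_fin, Fintype.card_fin]
      rfl
    rw [h2] at h1
    have key : p = 3 → 8 ≤ n := fun h3 => by
      subst h3
      have h4 : 3 ^ 8 ∣ Nat.card S := by
        rw [hcard]
        have : 1 * 3 * 3 * 3 * 3 * 3 * 3 * 3 * 3 ∣ q ^ 120 * (q ^ 2 - 1) * (q ^ 8 - 1) * (q ^ 12 - 1) * (q ^ 14 - 1) *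
            (q ^ 18 - 1) * (q ^ 20 - 1) * (q ^ 24 - 1) * (q ^ 30 - 1) := by
          refine Nat.mul_dvd_mul (Nat.mul_dvd_mul (Nat.mul_dvd_mul (Nat.mul_dvd_mul (Nat.mul_dvd_mul (Nat.mul_dvd_mul
            (Nat.mul_dvd_mul (Nat.mul_dvd_mul (one_dvd _) ?_) ?_) ?_) ?_) ?_) ?_) ?_) ?_
          all_goals exact three hq1.le hpF (by decide)
        exact this
      exact s.le_of_dvd h4
    rcases s.small (by omega) with ⟨h3, h4, -⟩ | ⟨rfl, rfl, -⟩ | ⟨rfl, rfl, -⟩ | ⟨h3, h4, -⟩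
    · have := key h3
      omega
    · have h4 : 5 ^ 4 ∣ Nat.card S := by
        rw [hcard]
        have : 1 * 1 * 5 * 5 * 1 * 1 * 5 * 5 * 1 ∣ q ^ 120 * (q ^ 2 - 1) * (q ^ 8 - 1) * (q ^ 12 - 1) * (q ^ 14 - 1) *
            (q ^ 18 - 1) * (q ^ 20 - 1) * (q ^ 24 - 1) * (q ^ 30 - 1) := by
          refine Nat.mul_dvd_mul (Nat.mul_dvd_mul (Nat.mul_dvd_mul (Nat.mul_dvd_mul (Nat.mul_dvd_mul (Nat.mul_dvd_mul
            (Nat.mul_dvd_mul (Nat.mul_dvd_mul (one_dvd _) (one_dvd _)) ?_) ?_) (one_dvd _)) (one_dvd _)) ?_) ?_) (one_dvd _)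
          all_goals exact fermat hp.out hq1.le hpF (by norm_num)
        exact this
      exact absurd (s.le_of_dvd h4) (by norm_num)
    · have h4 : 7 ^ 4 ∣ Nat.card S := by
        rw [hcard]
        have : 1 * 1 * 1 * 7 * 1 * 7 * 1 * 7 * 7 ∣ q ^ 120 * (q ^ 2 - 1) * (q ^ 8 - 1) * (q ^ 12 - 1) * (q ^ 14 - 1) *
            (q ^ 18 - 1) * (q ^ 20 - 1) * (q ^ 24 - 1) * (q ^ 30 - 1) := by
          refine Nat.mul_dvd_mul (Nat.mul_dvd_mul (Nat.mul_dvd_mul (Nat.mul_dvd_mul (Nat.mul_dvd_mul (Nat.mul_dvd_mul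
            (Nat.mul_dvd_mul (Nat.mul_dvd_mul (one_dvd _) (one_dvd _)) (one_dvd _)) ?_) (one_dvd _)) ?_) (one_dvd _)) ?_) ?_
          all_goals exact fermat hp.out hq1.le hpF (by norm_num)
        exact this
      exact absurd (s.le_of_dvd h4) (by norm_num)
    · have := key h3
      omega

theorem sz_false [hp : Fact p.Prime] [Finite S] (s : Sit p n t S) {F : Type} [Field F] [Fintype F]
    {m : ℕ} (hF : Fintype.card F = 2 ^ (2 * m + 1)) (e : S ≃* ↥(Lie.Sz F (2 ^ (m + 1)))) : False := by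
  have hp3 := s.p3
  have hpF : ¬ p ∣ Fintype.card F := by
    rw [hF]
    intro h
    have := Nat.le_of_dvd (by norm_num) (hp.out.dvd_of_dvd_pow h)
    omega
  have h1 := s.le_dim (natCast_ne_zero hpF) _ e
  rw [Fintype.card_fin] at h1
  rcases s.small (by omega) with h | h | h | h <;> omega

theorem ree_false [hp : Fact p.Prime] [Finite S] (T : OrderTable.{0}) (s : Sit p n t S) {F : Type} [Field F] [Fintype F]
    {m : ℕ} (hm : 1 ≤ m) (hF : Fintype.card F = 3 ^ (2 * m + 1)) (e : S ≃* ↥(Lie.twistedG2 F (3 ^ m))) : False := by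
  have hcard := T.ree F m hm hF
  rw [← Nat.card_congr e.toEquiv] at hcard
  by_cases hp3 : p = 3
  · subst hp3
    set q := 3 ^ (2 * m + 1) with hq
    have hq1 : 1 ≤ q := Nat.one_le_pow _ _ (by norm_num)
    have hpF : 3 ∣ q := dvd_pow_self _ (by omega)
    have h0 : 1 * Nat.card S = 3 ^ ((2 * m + 1) * 3) * ((q ^ 1 - 1) * (q ^ 3 + 1)) := by
      have h9 : 3 ^ ((2 * m + 1) * 3) = q ^ 3 := by rw [hq, ← pow_mul]
      rw [hcard, h9, pow_one]
      ring
    have hn := s.eq_of_card h0 (by norm_num) (by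
      simp only [hp.out.dvd_mul, not_or]
      exact ⟨not_dvd_sub hp.out hpF hq1 le_rfl, not_dvd_add_one hp.out hpF (by norm_num)⟩)
    obtain ⟨r, hr, h1, h2, h3⟩ := s.exists_prime h0
    rcases hr.dvd_mul.1 h1 with h1 | h1
    · rw [pow_one, hq, h2, hn] at h1
      have := Nat.le_of_dvd (by omega) h1
      omega
    · rw [hq, ← pow_mul] at h1
      exact h3 _ h1
  · have hpF : ¬ p ∣ Fintype.card F := by
      rw [hF]
      intro h
      exact hp3 ((Nat.prime_dvd_prime_iff_eq hp.out Nat.prime_three).1 (hp.out.dvd_of_dvd_pow h))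
    have h1 := s.le_dim (natCast_ne_zero hpF) _ e
    have h2 : Fintype.card Lie.chevG2.Idx = 14 := by
      rw [Fintype.card_sum, Fintype.card_fin, Fintype.card_fin]
      rfl
    rw [h2] at h1
    rcases s.small (by omega) with h | h | h | h <;> omega

/-- `G_2(q)`: only `p = n = 3`, `t = 13` is left. -/
theorem g2_reduce [hp : Fact p.Prime] [Finite S] (T : OrderTable.{0}) (s : Sit p n t S) {F : Type} [Field F] [Fintype F]
    (e : S ≃* ↥(Lie.chevG2.group F)) : p = 3 ∧ n = 3 ∧ t = 13 ∧ ¬ 3 ∣ Fintype.card F := by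
  have hcard := T.g2 F
  rw [← Nat.card_congr e.toEquiv] at hcard
  set q := Fintype.card F with hq
  have hq1 : 1 < q := Fintype.one_lt_card
  by_cases hpF : p ∣ q
  · exfalso
    obtain ⟨f, hf1, hf, hF⟩ := exists_card hpF
    have hs : ∀ k, 1 ≤ k → ¬ p ∣ q ^ k - 1 := fun k hk => not_dvd_sub hp.out hpF hq1.le hk
    refine s.even_false (q := q) (c := 1) (N := 6) (B := (q ^ 2 - 1) * (q ^ 6 - 1))
      (by decide) ⟨f, hf⟩ hp.out.not_dvd_one ?_ (by rw [hcard]; ring)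
    simp only [hp.out.dvd_mul, not_or]
    exact ⟨hs _ (by norm_num), hs _ (by norm_num)⟩
  · have h1 := s.le_dim (natCast_ne_zero hpF) _ e
    have h2 : Fintype.card Lie.chevG2.Idx = 14 := by
      rw [Fintype.card_sum, Fintype.card_fin, Fintype.card_fin]
      rfl
    rw [h2] at h1
    rcases s.small (by omega) with ⟨rfl, rfl, h⟩ | h | h | h
    · exact ⟨rfl, rfl, by omega, hpF⟩
    all_goals omega

/-- `²F_4(q)`: only `p = n = 3` is left. -/
theorem tf4_reduce [hp : Fact p.Prime] [Finite S] (s : Sit p n t S) {F : Type} [Field F] [Fintype F]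
    {m : ℕ} (hF : Fintype.card F = 2 ^ (2 * m + 1)) (e : S ≃* ↥(Lie.twistedF4 F (2 ^ m))) : p = 3 ∧ n = 3 := by
  have hp3 := s.p3
  have hpF : ¬ p ∣ Fintype.card F := by
    rw [hF]
    intro h
    have := Nat.le_of_dvd (by norm_num) (hp.out.dvd_of_dvd_pow h)
    omega
  have h1 := s.le_dim (natCast_ne_zero hpF) _ e
  have h2 : Fintype.card Lie.chevF4.Idx = 52 := by
    rw [Fintype.card_sum, Fintype.card_fin, Fintype.card_fin]
    rfl
  rw [h2] at h1
  rcases s.small (by omega) with ⟨rfl, rfl, h⟩ | h | h | h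
  · exact ⟨rfl, rfl⟩
  all_goals omega

end Cfsg.Agent.H634.El
end

-- part: H634/ElLoc
section
set_option linter.all false
open scoped Cfsg.Agent.FastGrp

/-!
# Elimination: local arguments, `²F_4(q)` and the Tits group
-/

set_option autoImplicit false

open Cfsg Subgroup

namespace Cfsg.Agent.H634.El

open Cfsg.Agent.H634.HypS Cfsg.Agent.H634.Dim Cfsg.Agent.H634.Num Cfsg.Agent.OrdDiv

variable {p n t : ℕ} {S : Type*} [Group S]

/-- Sylow `p`-subgroups are abelian. -/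
theorem heis_false [hp : Fact p.Prime] (h : Hyp p n S) {x y z : S} (hx : x ^ p = 1) (hy : y ^ p = 1)
    (hzx : z * x = x * z) (hzy : z * y = y * z) (hxy : x * y = z * (y * x)) (hz : z ≠ 1) : False := by
  obtain ⟨P, hP, hxP, hyP⟩ := Cfsg.Agent.H42.Tw.exists_pgroup hx hy hzx hzy hxy
  have h1 := h.comm P hP x hxP y hyP
  rw [hxy] at h1
  exact hz (mul_eq_right.1 h1)

/-- `p`-elements do not commute with involutions if the centralizers of the involutions have small `p`-part. -/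
theorem two_local_false [Finite S] [hp : Fact p.Prime] (h : Hyp p n S) (hp2 : p ≠ 2) (hn : 3 ≤ n) {z : S}
    (hz : orderOf z = 2) (hpz : p ∣ Nat.card (centralizer ({z} : Set S)))
    (hall : ∀ t : S, orderOf t = 2 → ¬ p ^ 2 ∣ Nat.card (centralizer ({t} : Set S))) : False := by
  classical
  have : Fact (Nat.Prime 2) := ⟨Nat.prime_two⟩
  obtain ⟨⟨x, hxz⟩, hx⟩ := exists_prime_orderOf_dvd_card' p hpz
  rw [← Subgroup.orderOf_coe] at hx
  dsimp only at hx
  rw [mem_centralizer_singleton_iff] at hxz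
  have hxp : PEl p x := ⟨1, by rw [hx, pow_one]⟩
  have hx1 : x ≠ 1 := by
    intro h0
    rw [h0, orderOf_one] at hx
    exact hp.out.one_lt.ne hx
  obtain ⟨P, hP⟩ := hxp.exists_sylow
  set C := centralizer ({x} : Set S) with hC
  have hPC : (P : Subgroup S) ≤ C := by
    intro a ha
    rw [hC, mem_centralizer_singleton_iff]
    exact h.sylow_comm P ha hP
  have hzC : z ∈ C := by
    rw [hC, mem_centralizer_singleton_iff]
    exact hxz.symm
  obtain ⟨Q, K, hK, hKQ⟩ := h.nil x hxp hx1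
  have hKz : (⟨z, hzC⟩ : C) ∈ K := by
    rw [Cfsg.Agent.Transfer.NormalPComplement.mem_iff_coprime_orderOf Q K hKQ, ← Subgroup.orderOf_coe]
    dsimp only
    rw [hz]
    exact (Nat.coprime_primes Nat.prime_two hp.out).2 (Ne.symm hp2)
  have hKc := Cfsg.Agent.Transfer.NormalPComplement.coprime_of_isComplement' Q hKQ
  set L := K.map C.subtype with hL
  have hcL : Nat.card L = Nat.card K := Subgroup.card_map_of_injective C.subtype_injective
  have hPL : (P : Subgroup S) ≤ normalizer (L : Set S) := by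
    intro a ha
    rw [mem_normalizer_iff]
    have key : ∀ b ∈ C, ∀ y ∈ L, b * y * b⁻¹ ∈ L := by
      rintro b hb _ ⟨k, hk, rfl⟩
      exact ⟨⟨b, hb⟩ * k * ⟨b, hb⟩⁻¹, hK.conj_mem k hk ⟨b, hb⟩, rfl⟩
    intro y
    refine ⟨fun hy => key a (hPC ha) y hy, fun hy => ?_⟩
    have := key a⁻¹ (C.inv_mem (hPC ha)) _ hy
    have e : a⁻¹ * (a * y * a⁻¹) * a⁻¹⁻¹ = y := by group
    rwa [e] at this
  obtain ⟨T, hT⟩ := Cfsg.Agent.Lib.CoprimeHyperplane.exists_invariant_sylow P.isPGroup' hPL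
    (by rw [hcL]; exact fun hd => hp.out.one_lt.ne' (Nat.dvd_one.1 (by rw [← hKc]; exact Nat.dvd_gcd hd dvd_rfl))) 2
  have h2L : 2 ∣ Nat.card L := by
    have hzL : z ∈ L := ⟨⟨z, hzC⟩, hKz, rfl⟩
    have := orderOf_dvd_natCard (⟨z, hzL⟩ : L)
    rwa [← Subgroup.orderOf_coe, hz] at this
  have hTne : (T : Subgroup L).map L.subtype ≠ ⊥ := by
    intro h0
    rw [Subgroup.map_eq_bot_iff_of_injective _ L.subtype_injective] at h0
    have := T.card_eq_multiplicity
    rw [h0, Subgroup.card_bot] at this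
    have h3 : 1 ≤ (Nat.card L).factorization 2 :=
      (Nat.prime_two.dvd_iff_one_le_factorization (Nat.card_pos.ne')).1 h2L
    have h4 : 2 ^ 1 ≤ 2 ^ (Nat.card L).factorization 2 := Nat.pow_le_pow_right (by norm_num) h3
    omega
  have h2 := Cfsg.Agent.BiChar.Small.twoLocal_le_of_card hp.out hp2 hall
  have h3 := h2 _ ⟨_, T.isPGroup'.map L.subtype, hTne, rfl⟩
    ((P : Subgroup S).subgroupOf (normalizer (((T : Subgroup L).map L.subtype : Subgroup S) : Set S)))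
    ⟨⟨fun a b => Subtype.ext (Subtype.ext (h.sylow_comm P a.2 b.2))⟩⟩
    (fun a ha => Subtype.ext (h.exp a.1 (PEl.of_mem P.isPGroup' ha)))
  have h4 : Nat.card ((P : Subgroup S).subgroupOf (normalizer (((T : Subgroup L).map L.subtype : Subgroup S) : Set S))) =
      Nat.card P := Nat.card_congr (subgroupOfEquivOfLe hT).toEquiv
  rw [h4, h.card_sylow P] at h3
  have h5 := (Nat.pow_le_pow_iff_right hp.out.one_lt).1 h3
  omega

theorem tf4_false [hp : Fact p.Prime] [Finite S] (s : Sit p n t S) {F : Type} [Field F] [Fintype F]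
    {m : ℕ} (hF : Fintype.card F = 2 ^ (2 * m + 1)) (e : S ≃* ↥(Lie.twistedF4 F (2 ^ m))) : False := by
  obtain ⟨rfl, rfl⟩ := tf4_reduce s hF e
  have h2 : CharP F 2 := by
    have : Fact (Nat.Prime 2) := ⟨Nat.prime_two⟩
    obtain ⟨f, -, -, h⟩ := exists_card (p := 2) (F := F) (by rw [hF]; exact dvd_pow_self _ (by omega))
    exact h
  have h := s.h.congr e
  obtain ⟨P⟩ : Nonempty (Sylow 3 ↥(Lie.twistedF4 F (2 ^ m))) := inferInstance
  refine Cfsg.Agent.H42.Tw.not_abelian_three F (e := 2 ^ m) (by positivity) P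
    ⟨⟨fun a b => Subtype.ext (h.comm P P.isPGroup' a a.2 b b.2)⟩⟩

theorem pow_of_comm {G : Type*} [Group G] {p : ℕ} {x y z : G} (hy : y ^ p = 1) (hzy : z * y = y * z)
    (h : x * y = z * (y * x)) : z ^ p = 1 := by
  have h1 : x * y * x⁻¹ = z * y := by rw [h]; group
  have h2 : (x * y * x⁻¹) ^ p = (z * y) ^ p := by rw [h1]
  rw [conj_pow, hy, mul_one, mul_inv_cancel, (show Commute z y from hzy).mul_pow, hy, mul_one] at h2
  exact h2.symm

theorem mem_of_cube {G : Type*} [Group G] {N : Subgroup G} (hN : N.index = 2) {w : G} (hw : w ^ 3 = 1) : w ∈ N := by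
  have h1 := Subgroup.sq_mem_of_index_two hN w
  have h2 : w = w⁻¹ ^ 2 * w ^ 3 := by group
  rw [h2, hw, mul_one, inv_pow]
  exact Subgroup.inv_mem _ h1

theorem tits_three [Fact (Nat.Prime 3)] {n : ℕ} (h : Hyp 3 n Lie.TitsGroup) : False := by
  obtain ⟨x, y, z, hx, hy, hzx, hzy, hxy, hz1⟩ := Cfsg.Agent.H42.Tw.exists_three
  have hidx : (commutator ↥(Cfsg.Lie.twistedF4 (ZMod 2) 1)).index = 2 := S1074.result.1
  have hz : z ^ 3 = 1 := pow_of_comm hy hzy hxy
  refine heis_false h (x := (⟨x, mem_of_cube hidx hx⟩ : Lie.TitsGroup)) (y := ⟨y, mem_of_cube hidx hy⟩)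
    (z := ⟨z, mem_of_cube hidx hz⟩)
    (Subtype.ext ((Subgroup.coe_pow _ _ _).trans hx)) (Subtype.ext ((Subgroup.coe_pow _ _ _).trans hy))
    (Subtype.ext hzx) (Subtype.ext hzy) (Subtype.ext hxy) ?_
  intro h0
  exact hz1 (congrArg Subtype.val h0)

end Cfsg.Agent.H634.El
end
end
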